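import Cfsg.Agent.Lib.Helper6.TCD.Fi23U3.SH
import Cfsg.Agent.Lib.Helper6.TCD.Fi23U3.SC
import Cfsg.Agent.Lib.Helper6.TCD.Fi23U3.NH
import Cfsg.Agent.Lib.Helper6.TCD.Fi23U3.NC
import Cfsg.Agent.Lib.Helper6.TCD.Fi23U3.WD
import Cfsg.Agent.Lib.Helper6.TCD.Fi23U3.WI
set_option autoImplicit false
namespace Cfsg.Agent.Lib.Helper6.TCD.Fi23U3
def n : Nat := 1562
def ncol : Nat := 7
def nrw : Nat := 67
def nw : Nat := 73
def tmax : Nat := 11744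
def INV : Nat := 106181136
def N : Nat := 243
end Cfsg.Agent.Lib.Helper6.TCD.Fi23U3
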